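import Mathlib
import Cfsg.Agent.Lib.Fus.TightCriterion.Basic

/-!
# Root involutions fixing one point: commuting products

`Hyp D M`: `D` is a set of root involutions and a member of `D ∩ M` is moved into `M` only by `M`.
If two commuting members have their product outside `D`, then the core of `M` is not trivial.
-/

set_option autoImplicit false

namespace Cfsg.Agent.Fus.RootCrit

open Subgroup

universe u

variable {G : Type u} [Group G]

/-- Root involutions each fixing one coset of `M`. -/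
structure Hyp (D : Set G) (M : Subgroup G) : Prop where
  inv : ∀ x ∈ D, orderOf x = 2
  conj : ∀ x ∈ D, ∀ g : G, g * x * g⁻¹ ∈ D
  pair : ∀ a ∈ D, ∀ b ∈ D, a * b = b * a ∨ Odd (orderOf (a * b)) ∨ (orderOf (a * b) = 4 ∧ (a * b) ^ 2 ∈ D)
  meets : ∃ d ∈ D, d ∈ M
  moves : ∀ d ∈ D, d ∈ M → ∀ g : G, g * d * g⁻¹ ∈ M → g ∈ M
  ne_top : M ≠ ⊤

variable {D : Set G} {M : Subgroup G}

theorem Hyp.mem_of_commute (h : Hyp D M) {d g : G} (hd : d ∈ D) (hdM : d ∈ M) (hc : Commute g d) : g ∈ M :=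
  h.moves d hd hdM g (by rwa [hc.eq, mul_inv_cancel_right])

theorem Hyp.mul_self (h : Hyp D M) {x : G} (hx : x ∈ D) : x * x = 1 :=
  Invol.mul_self_of_orderOf_two (h.inv x hx)

/-- Members on different points have a product of odd order. -/
theorem Hyp.odd_product (h : Hyp D M) {d e : G} (hd : d ∈ D) (hdM : d ∈ M) (he : e ∈ D) (heM : e ∉ M) :
    Odd (orderOf (e * d)) := by
  rcases h.pair e he d hd with hc | ho | ⟨h4, hsq⟩
  · exact absurd (h.mem_of_commute hd hdM hc) heM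
  · exact ho
  exfalso
  have hinv : ((e * d) ^ 2)⁻¹ = (e * d) ^ 2 :=
    inv_eq_of_mul_eq_one_right (by rw [← pow_add, show 2 + 2 = orderOf (e * d) by omega, pow_orderOf_eq_one])
  have key : ∀ x : G, x * (e * d) * x⁻¹ = (e * d)⁻¹ → Commute x ((e * d) ^ 2) := fun x hx => by
    show x * (e * d) ^ 2 = (e * d) ^ 2 * x
    rw [← mul_inv_eq_iff_eq_mul, ← conj_pow, hx, inv_pow, hinv]
  have h1 : Commute d ((e * d) ^ 2) := key d (by
    rw [mul_inv_rev, Invol.inv_of_orderOf_two (h.inv d hd), Invol.inv_of_orderOf_two (h.inv e he)]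
    rw [mul_assoc, mul_assoc, h.mul_self hd, mul_one])
  have h2 : Commute e ((e * d) ^ 2) := key e (Invol.conj_mul_eq_inv (h.inv e he) (h.inv d hd))
  exact heM (h.mem_of_commute hsq (h.mem_of_commute hd hdM h1.symm) h2)

/-- A product of odd order gives a conjugating element. -/
theorem Hyp.conj_of_odd (h : Hyp D M) {d e : G} (hd : d ∈ D) (he : e ∈ D) (ho : Odd (orderOf (e * d))) :
    ∃ k : G, (∀ u : G, Commute u d → Commute u e → Commute k u) ∧ k * d * k⁻¹ = e := by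
  obtain ⟨n, hn⟩ := ho
  refine ⟨(e * d) ^ (n + 1), fun u hud hue => ((hue.mul_right hud).pow_right _).symm, ?_⟩
  have hda : d * (e * d) * d⁻¹ = (e * d)⁻¹ := by
    rw [mul_inv_rev, Invol.inv_of_orderOf_two (h.inv d hd), Invol.inv_of_orderOf_two (h.inv e he)]
    rw [mul_assoc, mul_assoc, h.mul_self hd, mul_one]
  have h3 : (e * d) ^ (n + 1 + (n + 1)) = e * d := by
    rw [show n + 1 + (n + 1) = (2 * n + 1) + 1 by omega, pow_succ, ← hn, pow_orderOf_eq_one, one_mul]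
  rw [Tight.conj_pow_of_inverts hda, h3, mul_assoc, h.mul_self hd, mul_one]

theorem Hyp.exists_outside (h : Hyp D M) : ∃ d ∈ D, d ∈ M ∧ ∃ e ∈ D, e ∉ M := by
  obtain ⟨d, hd, hdM⟩ := h.meets
  by_contra hne
  push Not at hne
  exact h.ne_top (eq_top_iff.2 fun g _ => h.moves d hd hdM g (hne d hd hdM _ (h.conj d hd g)))

/-- The members commuting with `u` form one class of `C(u)`, if they meet two points. -/
theorem Hyp.conj_in_centralizer (h : Hyp D M) {u d d' e : G} (hd : d ∈ D) (hdM : d ∈ M) (hd' : d' ∈ D)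
    (he : e ∈ D) (heM : e ∉ M) (hud : Commute u d) (hud' : Commute u d') (hue : Commute u e) :
    ∃ k : G, Commute k u ∧ k * d * k⁻¹ = d' := by
  by_cases hd'M : d' ∈ M
  · obtain ⟨k, hk, hke⟩ := h.conj_of_odd hd he (h.odd_product hd hdM he heM)
    obtain ⟨l, hl, hle⟩ := h.conj_of_odd hd' he (h.odd_product hd' hd'M he heM)
    refine ⟨l⁻¹ * k, (hl u hud' hue).inv_left.mul_left (hk u hud hue), ?_⟩
    calc l⁻¹ * k * d * (l⁻¹ * k)⁻¹ = l⁻¹ * (k * d * k⁻¹) * l := by group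
      _ = d' := by rw [hke, ← hle]; group
  · obtain ⟨k, hk, hke⟩ := h.conj_of_odd hd hd' (h.odd_product hd hdM hd' hd'M)
    exact ⟨k, hk u hud hud', hke⟩

/-- All members are conjugate. -/
theorem Hyp.isConj (h : Hyp D M) {d d' : G} (hd : d ∈ D) (hdM : d ∈ M) (hd' : d' ∈ D) : IsConj d d' := by
  obtain ⟨d₀, hd₀, hd₀M, e, he, heM⟩ := h.exists_outside
  obtain ⟨k, -, hk⟩ := h.conj_in_centralizer (u := 1) hd hdM hd' he heM (Commute.one_left _)
    (Commute.one_left _) (Commute.one_left _)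
  exact _root_.isConj_iff.2 ⟨k, hk⟩

/-- The members commuting with a product outside `D` lie on one point. -/
theorem Hyp.mem_of_commute_bad (h : Hyp D M) {a b : G} (ha : a ∈ D) (haM : a ∈ M) (hb : b ∈ D)
    (hab : Commute a b) (hne : a ≠ b) {e : G} (he : e ∈ D) (hez : Commute e (a * b)) : e ∈ M := by
  by_contra heM
  have hbM : b ∈ M := h.mem_of_commute ha haM hab.symm
  have hz2 : orderOf (a * b) = 2 := by
    refine Invol.orderOf_two_iff.2 ⟨?_, fun e1 => hne ((mul_eq_one_iff_eq_inv.1 e1).trans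
      (Invol.inv_of_orderOf_two (h.inv b hb)))⟩
    rw [mul_assoc, ← mul_assoc b a, ← hab.eq, mul_assoc a b b, h.mul_self hb, mul_one, h.mul_self ha]
  have hoa := h.odd_product ha haM he heM
  have haz : Commute a (a * b) := (Commute.refl a).mul_right hab
  have heb : e * b = e * a * (a * b) := by
    rw [mul_assoc, ← mul_assoc a a b, h.mul_self ha, one_mul]
  refine Nat.not_even_iff_odd.2 (h.odd_product hb hbM he heM) ?_
  rw [heb, (hez.mul_left haz).orderOf_mul_eq_mul_orderOf_of_coprime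
    (by rw [hz2]; exact hoa.coprime_two_right), hz2]
  exact even_two.mul_left _

theorem Hyp.centralizer_bad (h : Hyp D M) {a b : G} (ha : a ∈ D) (haM : a ∈ M) (hb : b ∈ D)
    (hab : Commute a b) (hne : a ≠ b) {g : G} (hg : Commute g (a * b)) : g ∈ M := by
  refine h.moves a ha haM g (h.mem_of_commute_bad ha haM hb hab hne (h.conj a ha g) ?_)
  exact (hg.mul_left ((Commute.refl a).mul_right hab)).mul_left hg.inv_left

/-- An involution outside `D` fixes the point of `a`, or some member makes it centralise `a`. -/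
theorem Hyp.middle [Finite G] (h : Hyp D M) {x a : G} (hx : orderOf x = 2) (hxD : x ∉ D) (ha : a ∈ D)
    (haM : a ∈ M) : x ∈ M ∨ ∃ d ∈ D, Commute d x ∧ Commute (x * d) a := by
  have hxx : x * x = 1 := Invol.mul_self_of_orderOf_two hx
  have haa : a * a = 1 := h.mul_self ha
  have ha2 : orderOf a = 2 := h.inv a ha
  have hia : a * (a * x) * a⁻¹ = (a * x)⁻¹ := Invol.conj_mul_eq_inv ha2 hx
  have hix : x * (a * x) * x⁻¹ = (a * x)⁻¹ := by
    rw [mul_inv_rev, Invol.inv_of_orderOf_two hx, Invol.inv_of_orderOf_two ha2, mul_assoc, mul_assoc, hxx, mul_one]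
  have hax : a = a * x * x := by rw [mul_assoc, hxx, mul_one]
  rcases Nat.even_or_odd (orderOf (a * x)) with ⟨r, hr⟩ | ⟨n, hn⟩
  swap
  · exfalso
    have h3 : (a * x) ^ (n + 1 + (n + 1)) = a * x := by
      rw [show n + 1 + (n + 1) = (2 * n + 1) + 1 by omega, pow_succ, ← hn, pow_orderOf_eq_one, one_mul]
    have h1 : (a * x) ^ (n + 1) * x * ((a * x) ^ (n + 1))⁻¹ = a := by
      rw [Tight.conj_pow_of_inverts hix, h3, ← hax]
    refine hxD ?_
    have := h.conj a ha ((a * x) ^ (n + 1))⁻¹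
    rw [inv_inv] at this
    obtain ⟨k, hk⟩ : ∃ k, k = (a * x) ^ (n + 1) := ⟨_, rfl⟩
    rw [← hk] at h1 this
    rwa [show k⁻¹ * a * k = x by
      calc k⁻¹ * a * k = k⁻¹ * (k * x * k⁻¹) * k := by rw [h1]
        _ = x := by group] at this
  obtain ⟨w, hw⟩ : ∃ w, w = (a * x) ^ r := ⟨_, rfl⟩
  have hr0 : 0 < r := by have := orderOf_pos (a * x); omega
  have hw1 : w ≠ 1 := fun e => by
    have := Nat.le_of_dvd hr0 (orderOf_dvd_of_pow_eq_one (hw ▸ e))
    omega
  have hwinv : w⁻¹ = w :=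
    inv_eq_of_mul_eq_one_right (by rw [hw, ← pow_add, ← hr, pow_orderOf_eq_one])
  have key : ∀ y : G, y * (a * x) * y⁻¹ = (a * x)⁻¹ → Commute w y := fun y hy => by
    have h1 : y * w * y⁻¹ = w := by
      rw [hw, ← conj_pow, hy, inv_pow, ← hw, hwinv]
    exact ((mul_inv_eq_iff_eq_mul.1 h1)).symm
  have hwa := key a hia
  have hwx := key x hix
  rcases Nat.even_or_odd' r with ⟨k, hk | hk⟩
  · left
    have hwaD : w * a ∈ D := by
      have := h.conj a ha ((a * x) ^ k)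
      rwa [Tight.conj_pow_of_inverts hia, ← two_mul, ← hk, ← hw] at this
    have hc : Commute a (w * a) := hwa.symm.mul_right (Commute.refl a)
    have hwM : w ∈ M := by
      have := mul_mem (h.mem_of_commute ha haM hc.symm) haM
      rwa [mul_assoc, haa, mul_one] at this
    by_cases hwD : w ∈ D
    · exact h.mem_of_commute hwD hwM hwx.symm
    refine h.centralizer_bad ha haM hwaD hc (fun e => hw1 ?_) ?_
    · exact mul_eq_right.1 e.symm
    · rw [← mul_assoc, ← hwa.eq, mul_assoc, haa, mul_one]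
      exact hwx.symm
  · right
    refine ⟨w * x, ?_, hwx.mul_left (Commute.refl x), ?_⟩
    · have := h.conj a ha ((a * x) ^ k)
      rw [Tight.conj_pow_of_inverts hia] at this
      convert this using 1
      rw [hw, hk, show 2 * k + 1 = k + k + 1 by omega, pow_succ]
      rw [mul_assoc _ (a * x) x, ← hax]
    · rw [← mul_assoc, ← hwx.eq, mul_assoc, hxx, mul_one]
      exact hwa

/-- A commuting product outside `D` puts a non-trivial element in the core. -/
theorem Hyp.core_of_bad [Finite G] (h : Hyp D M) {a b : G} (ha : a ∈ D) (hb : b ∈ D) (hab : Commute a b)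
    (hne : a ≠ b) (hbad : a * b ∉ D) : ∃ x : G, x ≠ 1 ∧ x ∈ M.normalCore := by
  wlog haM : a ∈ M generalizing a b
  · obtain ⟨d, hd, hdM⟩ := h.meets
    obtain ⟨g, hg⟩ := _root_.isConj_iff.1 (h.isConj hd hdM ha)
    refine this (a := g⁻¹ * a * g) (b := g⁻¹ * b * g) ?_ ?_ ?_ (fun e => hne ?_) (fun e => hbad ?_) ?_
    · simpa using h.conj a ha g⁻¹
    · simpa using h.conj b hb g⁻¹
    · show g⁻¹ * a * g * (g⁻¹ * b * g) = g⁻¹ * b * g * (g⁻¹ * a * g)
      calc g⁻¹ * a * g * (g⁻¹ * b * g) = g⁻¹ * (a * b) * g := by group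
        _ = g⁻¹ * (b * a) * g := by rw [hab.eq]
        _ = _ := by group
    · exact mul_left_cancel (mul_right_cancel e)
    · have := h.conj _ e g
      rwa [show g * (g⁻¹ * a * g * (g⁻¹ * b * g)) * g⁻¹ = a * b by group] at this
    · rwa [show g⁻¹ * a * g = d by rw [← hg]; group]
  have hbM : b ∈ M := h.mem_of_commute ha haM hab.symm
  obtain ⟨z, hz⟩ : ∃ z, z = a * b := ⟨_, rfl⟩
  have hzz : z * z = 1 := by
    rw [hz, mul_assoc, ← mul_assoc b a, ← hab.eq, mul_assoc a b b, h.mul_self hb, mul_one, h.mul_self ha]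
  have hz1 : z ≠ 1 := fun e => hne ((mul_eq_one_iff_eq_inv.1 (hz ▸ e)).trans
    (Invol.inv_of_orderOf_two (h.inv b hb)))
  by_cases hall : ∀ g : G, g * z * g⁻¹ ∈ M
  · exact ⟨z, hz1, hall⟩
  push Not at hall
  obtain ⟨g, hg⟩ := hall
  have hgz2 : orderOf (g * z * g⁻¹) = 2 :=
    (Invol.orderOf_conj_eq g z).trans (Invol.orderOf_two_iff.2 ⟨hzz, hz1⟩)
  have hgzD : g * z * g⁻¹ ∉ D := fun e => hbad (by
    have := h.conj _ e g⁻¹
    rwa [show g⁻¹ * (g * z * g⁻¹) * g⁻¹⁻¹ = a * b by rw [hz]; group] at this)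
  obtain ⟨d₀, hd₀, hd₀z, hd₀a⟩ := (h.middle hgz2 hgzD ha haM).resolve_left hg
  obtain ⟨d, hd⟩ : ∃ d, d = g⁻¹ * d₀ * g := ⟨_, rfl⟩
  obtain ⟨e, he⟩ : ∃ e, e = g⁻¹ * a * g := ⟨_, rfl⟩
  have hdD : d ∈ D := by simpa [hd] using h.conj d₀ hd₀ g⁻¹
  have heD : e ∈ D := by simpa [he] using h.conj a ha g⁻¹
  have hdz : Commute d z := by
    show d * z = z * d
    calc d * z = g⁻¹ * (d₀ * (g * z * g⁻¹)) * g := by rw [hd]; group
      _ = g⁻¹ * (g * z * g⁻¹ * d₀) * g := by rw [hd₀z.eq]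
      _ = z * d := by rw [hd]; group
  have hue : Commute (z * d) e := by
    show z * d * e = e * (z * d)
    calc z * d * e = g⁻¹ * (g * z * g⁻¹ * d₀ * a) * g := by rw [hd, he]; group
      _ = g⁻¹ * (a * (g * z * g⁻¹ * d₀)) * g := by rw [hd₀a.eq]
      _ = e * (z * d) := by rw [hd, he]; group
  have hdM : d ∈ M := h.mem_of_commute_bad ha haM hb hab hne hdD (hz ▸ hdz)
  have hzM : z ∈ M := hz ▸ mul_mem haM hbM
  have heM : e ∉ M := fun heM => by
    have hgM : g⁻¹ ∈ M := h.moves a ha haM g⁻¹ (by rw [inv_inv]; exact he ▸ heM)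
    exact hg (mul_mem (mul_mem (inv_mem_iff.1 hgM) hzM) hgM)
  obtain ⟨u, hu⟩ : ∃ u, u = z * d := ⟨_, rfl⟩
  have hud : Commute u d := hu ▸ hdz.symm.mul_left (Commute.refl d)
  have hu2 : orderOf u = 2 := by
    refine Invol.orderOf_two_iff.2 ⟨?_, fun e1 => hbad ?_⟩
    · rw [hu, mul_assoc, ← mul_assoc d z, hdz.eq, mul_assoc z d d, h.mul_self hdD, mul_one, hzz]
    · rw [← hz, (mul_eq_one_iff_eq_inv.1 (hu ▸ e1) : z = d⁻¹), Invol.inv_of_orderOf_two (h.inv d hdD)]
      exact hdD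
  have huD : u ∉ D := fun e1 =>
    heM (h.mem_of_commute e1 (hu ▸ mul_mem hzM hdM) (hu ▸ hue).symm)
  refine ⟨u, Invol.ne_one_of_orderOf_two hu2, fun t => ?_⟩
  by_contra ht
  have htu2 : orderOf (t * u * t⁻¹) = 2 := (Invol.orderOf_conj_eq t u).trans hu2
  have htuD : t * u * t⁻¹ ∉ D := fun e1 => huD (by
    have := h.conj _ e1 t⁻¹
    rwa [show t⁻¹ * (t * u * t⁻¹) * t⁻¹⁻¹ = u by group] at this)
  obtain ⟨c₀, hc₀, hc₀u, hc₀a⟩ := (h.middle htu2 htuD ha haM).resolve_left ht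
  obtain ⟨c, hc⟩ : ∃ c, c = t⁻¹ * c₀ * t := ⟨_, rfl⟩
  have hcD : c ∈ D := by simpa [hc] using h.conj c₀ hc₀ t⁻¹
  have hcu : Commute u c := by
    show u * c = c * u
    calc u * c = t⁻¹ * (t * u * t⁻¹ * c₀) * t := by rw [hc]; group
      _ = t⁻¹ * (c₀ * (t * u * t⁻¹)) * t := by rw [hc₀u.eq]
      _ = c * u := by rw [hc]; group
  obtain ⟨k, hku, hk⟩ := h.conj_in_centralizer hdD hdM hcD heD heM hud hcu (hu ▸ hue)
  have huc : u * c = k * z * k⁻¹ := by
    have h1 : u * d = z := by rw [hu, mul_assoc, h.mul_self hdD, mul_one]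
    have h2 : k * u * k⁻¹ = u := by rw [hku.eq, mul_inv_cancel_right]
    calc u * c = k * u * k⁻¹ * (k * d * k⁻¹) := by rw [h2, hk]
      _ = k * (u * d) * k⁻¹ := by group
      _ = k * z * k⁻¹ := by rw [h1]
  have hyz : Commute (k⁻¹ * (t⁻¹ * a * t) * k) z := by
    have h1 : u * c * (t⁻¹ * a * t) = t⁻¹ * a * t * (u * c) := by
      calc u * c * (t⁻¹ * a * t) = t⁻¹ * (t * u * t⁻¹ * c₀ * a) * t := by rw [hc]; group
        _ = t⁻¹ * (a * (t * u * t⁻¹ * c₀)) * t := by rw [hc₀a.eq]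
        _ = _ := by rw [hc]; group
    rw [huc] at h1
    show k⁻¹ * (t⁻¹ * a * t) * k * z = z * (k⁻¹ * (t⁻¹ * a * t) * k)
    calc k⁻¹ * (t⁻¹ * a * t) * k * z = k⁻¹ * (t⁻¹ * a * t * (k * z * k⁻¹)) * k := by group
      _ = k⁻¹ * (k * z * k⁻¹ * (t⁻¹ * a * t)) * k := by rw [h1]
      _ = _ := by group
  have hyD : (t * k)⁻¹ * a * (t * k)⁻¹⁻¹ ∈ D := h.conj a ha _
  have hyM := h.mem_of_commute_bad ha haM hb hab hne hyD
    (by rw [← hz, show (t * k)⁻¹ * a * (t * k)⁻¹⁻¹ = k⁻¹ * (t⁻¹ * a * t) * k by group]; exact hyz)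
  have hn := h.moves a ha haM _ hyM
  refine ht ?_
  have huM : u ∈ M := hu ▸ mul_mem hzM hdM
  have := mul_mem (mul_mem (inv_mem_iff.1 hn) huM) hn
  rwa [show t * k * u * (t * k)⁻¹ = t * (k * u * k⁻¹) * t⁻¹ by group, hku.eq, mul_inv_cancel_right] at this

/-- The faithful case. -/
theorem Hyp.closed [Finite G] (h : Hyp D M) (hcore : M.normalCore = ⊥) {a b : G} (ha : a ∈ D) (hb : b ∈ D)
    (hab : a * b = b * a) (hne : a ≠ b) : a * b ∈ D := by
  by_contra hbad
  obtain ⟨x, hx1, hx⟩ := h.core_of_bad ha hb hab hne hbad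
  rw [hcore, mem_bot] at hx
  exact hx1 hx

end Cfsg.Agent.Fus.RootCrit
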