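import Mathlib
import Cfsg.Agent.Lib.Fus.RootCriterion.Closed

/-!
# The number of root involutions is odd

In the closed case `e ↦ e d` (for `e` commuting with `d`) and `e ↦ d e d` (otherwise) is an involution without fixed
points of `D - {d}`.  So `|D|` is odd and every member is central in a Sylow subgroup.
-/

set_option autoImplicit false

namespace Cfsg.Agent.Fus.RootCrit

open Subgroup

universe u

variable {G : Type u} [Group G] [Finite G] {D : Set G} {M : Subgroup G}

theorem Hyp.odd_card (h : Hyp D M) (hcl : ∀ a ∈ D, ∀ b ∈ D, a * b = b * a → a ≠ b → a * b ∈ D) {d : G}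
    (hd : d ∈ D) : Odd D.ncard := by
  classical
  haveI : Fact (Nat.Prime 2) := ⟨Nat.prime_two⟩
  have hdd : d * d = 1 := h.mul_self hd
  have hdi : d⁻¹ = d := Invol.inv_of_orderOf_two (h.inv d hd)
  let f : G → G := fun x => if x * d = d * x then x * d else d * x * d
  have hf : ∀ x ∈ D \ {d}, f x ∈ D \ {d} ∧ f (f x) = x ∧ f x ≠ x := by
    rintro x ⟨hx, hne⟩
    have hne' : x ≠ d := hne
    by_cases hc : x * d = d * x
    · have e : f x = x * d := if_pos hc
      have hc2 : x * d * d = d * (x * d) := by rw [← mul_assoc, ← hc]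
      refine ⟨⟨e ▸ hcl x hx d hd hc hne', fun e1 => Invol.ne_one_of_orderOf_two (h.inv x hx) ?_⟩, ?_, ?_⟩
      · rw [Set.mem_singleton_iff, e, mul_eq_right] at e1
        exact e1
      · rw [e, show f (x * d) = x * d * d from if_pos hc2, mul_assoc, hdd, mul_one]
      · rw [e]
        exact fun e1 => Invol.ne_one_of_orderOf_two (h.inv d hd) (mul_eq_left.1 e1)
    · have e : f x = d * x * d := if_neg hc
      have hmem : d * x * d ∈ D := by
        have := h.conj x hx d
        rwa [hdi] at this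
      have hback : d * (d * x * d) * d = x := by
        rw [← mul_assoc, ← mul_assoc, hdd, one_mul, mul_assoc, hdd, mul_one]
      refine ⟨⟨e ▸ hmem, fun e1 => hne' ?_⟩, ?_, fun e1 => hc ?_⟩
      · rw [Set.mem_singleton_iff, e] at e1
        calc x = d * (d * x * d) * d := hback.symm
          _ = d := by rw [e1, hdd, one_mul]
      · rw [e]
        refine (if_neg fun e1 => hc ?_).trans hback
        rw [mul_assoc (d * x) d d, hdd, mul_one, ← mul_assoc d (d * x) d, ← mul_assoc d d x, hdd, one_mul] at e1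
        exact e1.symm
      · rw [e] at e1
        calc x * d = d * x * d * d := by rw [e1]
          _ = d * x := by rw [mul_assoc, hdd, mul_one]
  let σ : Equiv.Perm ↥(D \ {d}) := Function.Involutive.toPerm (fun x => ⟨f x.1, (hf x.1 x.2).1⟩)
    (fun x => Subtype.ext (hf x.1 x.2).2.1)
  haveI := Fintype.ofFinite ↥(D \ {d})
  have he : Even (Nat.card ↥(D \ {d})) := by
    by_contra ho
    rw [Nat.not_even_iff_odd] at ho
    obtain ⟨x, hx⟩ := Equiv.Perm.exists_fixed_point_of_prime (σ := σ) (p := 2) (n := 1)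
      (by rw [← Nat.card_eq_fintype_card]; exact ho.not_two_dvd_nat)
      (Equiv.ext fun y => by rw [pow_one, pow_two]; exact Function.Involutive.toPerm_involutive _ y)
    exact (hf x.1 x.2).2.2 (congrArg Subtype.val hx)
  rw [← Set.ncard_sdiff_singleton_add_one hd (Set.toFinite D)]
  rw [Nat.card_coe_set_eq] at he
  exact he.add_one

/-- Every member is central in a Sylow subgroup. -/
theorem Hyp.exists_central (h : Hyp D M) (hcl : ∀ a ∈ D, ∀ b ∈ D, a * b = b * a → a ≠ b → a * b ∈ D) {d : G}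
    (hd : d ∈ D) (hdM : d ∈ M) :
    ∃ P : Sylow 2 G, d ∈ (Subgroup.center ↥(P : Subgroup G)).map (P : Subgroup G).subtype := by
  haveI := Fact.mk Nat.prime_two
  have hwd : ∀ a b : G, a⁻¹ * b ∈ Subgroup.centralizer ({d} : Set G) → a * d * a⁻¹ = b * d * b⁻¹ := by
    intro a b hab
    have h1 := Subgroup.mem_centralizer_singleton_iff.mp hab
    calc a * d * a⁻¹ = a * (d * (a⁻¹ * b)) * (a⁻¹ * b)⁻¹ * a⁻¹ := by group
      _ = a * ((a⁻¹ * b) * d) * (a⁻¹ * b)⁻¹ * a⁻¹ := by rw [h1]
      _ = b * d * b⁻¹ := by group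
  let φ : G ⧸ Subgroup.centralizer ({d} : Set G) → ↥D := fun q => Quotient.liftOn' q
    (fun a => ⟨a * d * a⁻¹, h.conj d hd a⟩) fun a b hab => Subtype.ext (hwd a b (QuotientGroup.leftRel_apply.mp hab))
  have hφ : Function.Bijective φ := by
    constructor
    · intro q q'
      induction q using QuotientGroup.induction_on with
      | H a =>
        induction q' using QuotientGroup.induction_on with
        | H b =>
          intro hab
          have h1 : a * d * a⁻¹ = b * d * b⁻¹ := congrArg Subtype.val hab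
          rw [QuotientGroup.eq, Subgroup.mem_centralizer_singleton_iff]
          calc a⁻¹ * b * d = a⁻¹ * (b * d * b⁻¹) * b := by group
            _ = a⁻¹ * (a * d * a⁻¹) * b := by rw [h1]
            _ = d * (a⁻¹ * b) := by group
    · rintro ⟨x, hx⟩
      obtain ⟨a, rfl⟩ := _root_.isConj_iff.1 (h.isConj hd hdM hx)
      exact ⟨(a : G ⧸ Subgroup.centralizer ({d} : Set G)), rfl⟩
  have hodd : Odd (Subgroup.centralizer ({d} : Set G)).index := by
    rw [Subgroup.index, Nat.card_congr (Equiv.ofBijective φ hφ), Nat.card_coe_set_eq]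
    exact h.odd_card hcl hd
  obtain ⟨Q⟩ : Nonempty (Sylow 2 ↥(Subgroup.centralizer ({d} : Set G))) := inferInstance
  set Q' := (Q : Subgroup ↥(Subgroup.centralizer ({d} : Set G))).map (Subgroup.centralizer ({d} : Set G)).subtype
  have hidx : ¬ 2 ∣ Q'.index := by
    rw [Subgroup.index_map_subtype, Nat.prime_two.dvd_mul]
    exact not_or.mpr ⟨Q.not_dvd_index, hodd.not_two_dvd_nat⟩
  refine ⟨(Q.isPGroup'.map _ : IsPGroup 2 ↥Q').toSylow hidx, ?_⟩
  have hdC : d ∈ Subgroup.centralizer ({d} : Set G) := Subgroup.mem_centralizer_singleton_iff.mpr rfl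
  set d' : ↥(Subgroup.centralizer ({d} : Set G)) := ⟨d, hdC⟩
  have hdQ : d' ∈ (Q : Subgroup _) := by
    haveI : (Subgroup.zpowers d').Normal := ⟨fun w hw g => by
      obtain ⟨k, rfl⟩ := hw
      have hcen : Commute g d' := Subtype.ext (Subgroup.mem_centralizer_singleton_iff.mp g.2)
      show g * d' ^ k * g⁻¹ ∈ _
      rw [(hcen.zpow_right k).eq, mul_inv_cancel_right]
      exact ⟨k, rfl⟩⟩
    exact (IsPGroup.of_card (n := 1) (by rw [Nat.card_zpowers, ← Subgroup.orderOf_coe, h.inv d hd, pow_one]) :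
      IsPGroup 2 ↥(Subgroup.zpowers d')).le_sylow_of_normal Q (Subgroup.mem_zpowers d')
  refine ⟨⟨d, ⟨_, hdQ, rfl⟩⟩, Subgroup.mem_center_iff.mpr ?_, rfl⟩
  rintro ⟨_, ⟨w, _, rfl⟩⟩
  exact Subtype.ext (Subgroup.mem_centralizer_singleton_iff.mp w.2)

end Cfsg.Agent.Fus.RootCrit
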