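import Mathlib
import Cfsg.Agent.Lib.Fus.RootCriterion.Closed
import Cfsg.Agent.Lib.Fus.TightCriterion.Closure

/-!
# A central involution lies outside the group of the root involutions

As in `TightCriterion.Cover`, with the closed set of root involutions as the class.
-/

set_option autoImplicit false

namespace Cfsg.Agent.Fus.RootCrit

open Subgroup

universe u

variable {G : Type u} [Group G] [Finite G] {D : Set G} {N : Subgroup G}

/-- The central involution is not generated. -/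
theorem Hyp.central_notMem (h : Hyp D N) (hcl : ∀ a ∈ D, ∀ b ∈ D, a * b = b * a → a ≠ b → a * b ∈ D) {u : G}
    (hu2 : orderOf u = 2) (huc : ∀ g, u * g = g * u) (huD : u ∉ D) {H : Type u} [Group H] [Finite H] (π : G →* H)
    (hker : ∀ g, π g = 1 → g = 1 ∨ g = u) (hπu : π u = 1)
    (hiso : Tight.Isolated (N.map π) ((Subgroup.closure D).map π)) :
    u ∉ Subgroup.closure D := by
  classical
  haveI : Fact (Nat.Prime 2) := ⟨Nat.prime_two⟩
  intro huM
  set M := Subgroup.closure D with hM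
  set L := M.map π with hL
  set ρ : ↥M →* ↥L := π.subgroupMap M with hρ
  have hρs : Function.Surjective ρ := MonoidHom.subgroupMap_surjective π M
  haveI : (Cfsg.pPrimeCore 2 ↥L).Normal := Grp.pPrimeCore_isNormal
  haveI : (Cfsg.pPrimeCore 2 ↥M).Normal := Grp.pPrimeCore_isNormal
  set O := Cfsg.pPrimeCore 2 ↥M with hO
  set OL := Cfsg.pPrimeCore 2 ↥L with hOL
  have hOle : ∀ x : ↥M, x ∈ O → ρ x ∈ OL := fun x hx => by
    refine Grp.le_pPrimeCore (Subgroup.Normal.map inferInstance ρ hρs) ?_ ⟨x, hx, rfl⟩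
    exact Nat.Coprime.coprime_dvd_left (Subgroup.card_map_dvd _ _) Grp.pPrimeCore_coprime
  set φ : ↥M ⧸ O →* ↥L ⧸ OL := QuotientGroup.map O OL ρ (fun x hx => hOle x hx) with hφ
  have hφs : Function.Surjective φ := by
    intro y
    obtain ⟨y, rfl⟩ := QuotientGroup.mk'_surjective OL y
    obtain ⟨x, rfl⟩ := hρs y
    exact ⟨QuotientGroup.mk' O x, rfl⟩
  set u' : ↥M := ⟨u, huM⟩ with hu'
  have hu'2 : orderOf u' = 2 := by rw [hu', Subgroup.orderOf_mk, hu2]
  have hno2 : ∀ x : ↥M, orderOf x = 2 → x ∉ O := fun x h2 hx => Grp.pPrimeCore_not_dvd (p := 2) (G := ↥M) (by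
    have := orderOf_dvd_natCard (⟨x, hx⟩ : ↥O)
    rwa [Subgroup.orderOf_mk, h2] at this)
  have huO : u' ∉ O := hno2 _ hu'2
  set ub : ↥M ⧸ O := QuotientGroup.mk' O u' with hub
  have hub1 : ub ≠ 1 := fun e => huO ((QuotientGroup.eq_one_iff _).1 e)
  have hub2 : ub * ub = 1 := by
    rw [hub, ← map_mul, Invol.mul_self_of_orderOf_two hu'2, map_one]
  have hubc : ∀ g : ↥M ⧸ O, ub * g = g * ub := by
    intro g
    obtain ⟨g, rfl⟩ := QuotientGroup.mk'_surjective O g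
    rw [hub, ← map_mul, ← map_mul]
    congr 1
    exact Subtype.ext (huc g)
  have hρker : ∀ x, ρ x = 1 → x = 1 ∨ x = u' := fun x hx =>
    (hker x (congrArg Subtype.val hx)).imp (fun e => Subtype.ext e) fun e => Subtype.ext e
  have hρu : ρ u' = 1 := Subtype.ext hπu
  have hφu : φ ub = 1 := by
    show QuotientGroup.mk' OL (ρ u') = 1
    rw [hρu, map_one]
  have hφker : ∀ g, φ g = 1 → g = 1 ∨ g = ub := by
    intro g hg
    obtain ⟨x, rfl⟩ := QuotientGroup.mk'_surjective O g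
    rcases Tight.mem_core_or ρ hρker hu'2 (fun y => Subtype.ext (huc y)) hρu hρs ((QuotientGroup.eq_one_iff _).1 hg)
      with h1 | h1
    · exact Or.inl ((QuotientGroup.eq_one_iff _).2 h1)
    · refine Or.inr ?_
      have h2 : QuotientGroup.mk' O x * ub = 1 := by rw [hub, ← map_mul]; exact (QuotientGroup.eq_one_iff _).2 h1
      rw [eq_inv_of_mul_eq_one_left h2, inv_eq_of_mul_eq_one_left hub2]
  -- the class
  set S : Set ↥M := {x | (x : G) ∈ D} with hS
  set Z : Set (↥M ⧸ O) := QuotientGroup.mk' O '' S with hZ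
  have hSgen : Subgroup.closure S = ⊤ := by
    exact Subgroup.closure_closure_coe_preimage
  have hS2 : ∀ x ∈ S, orderOf x = 2 := fun x hx => (orderOf_coe x) ▸ h.inv _ hx
  have hSu : ∀ x ∈ S, QuotientGroup.mk' O x ≠ ub := by
    intro x hx e
    have h1 : x⁻¹ * u' ∈ O := (QuotientGroup.eq).1 e
    have hne : x⁻¹ * u' ≠ 1 := fun e => by
      rw [inv_mul_eq_one] at e
      exact huD ((show (x : G) = u from congrArg Subtype.val e) ▸ (hx : (x : G) ∈ D))
    have h2 : (x⁻¹ * u') ^ 2 = 1 := by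
      have hc : Commute x⁻¹ u' := Subtype.ext (huc (x : G)⁻¹).symm
      rw [hc.mul_pow, inv_pow, pow_two x, Invol.mul_self_of_orderOf_two (hS2 x hx), inv_one, pow_two,
        Invol.mul_self_of_orderOf_two hu'2, one_mul]
    exact hno2 _ (orderOf_eq_prime h2 hne) h1
  have hS1 : ∀ x ∈ S, QuotientGroup.mk' O x ≠ 1 := fun x hx e =>
    hno2 x (hS2 x hx) ((QuotientGroup.eq_one_iff _).1 e)
  have hZ2 : ∀ z ∈ Z, z * z = 1 ∧ z ≠ 1 := by
    rintro _ ⟨x, hx, rfl⟩
    exact ⟨by rw [← map_mul, Invol.mul_self_of_orderOf_two (hS2 x hx), map_one], hS1 x hx⟩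
  have hZc : ∀ z ∈ Z, ∀ g, g * z * g⁻¹ ∈ Z := by
    rintro _ ⟨x, hx, rfl⟩ g
    obtain ⟨g, rfl⟩ := QuotientGroup.mk'_surjective O g
    exact ⟨g * x * g⁻¹, h.conj _ hx _, by simp⟩
  have hgen : Subgroup.closure Z = ⊤ := by
    rw [hZ, ← MonoidHom.map_closure, hSgen, ← MonoidHom.range_eq_map]
    exact MonoidHom.range_eq_top.2 (QuotientGroup.mk'_surjective O)
  have huZ : ub ∉ Z := by
    rintro ⟨x, hx, e⟩
    exact hSu x hx e
  have hmul : ∀ z ∈ Z, ∀ t ∈ Z, z * t = t * z → z ≠ t → z * t ∈ Z := by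
    rintro _ ⟨x, hx, rfl⟩ _ ⟨y, hy, rfl⟩ hc hne
    have hsq : QuotientGroup.mk' O ((x * y) ^ 2) = 1 := by
      rw [map_pow, map_mul, (show Commute (QuotientGroup.mk' O x) (QuotientGroup.mk' O y) from hc).mul_pow,
        pow_two, pow_two, (hZ2 _ ⟨x, hx, rfl⟩).1, (hZ2 _ ⟨y, hy, rfl⟩).1, one_mul]
    rcases h.pair (x : G) hx (y : G) hy with hxy | hodd | ⟨h4, -⟩
    · refine ⟨x * y, hcl _ hx _ hy hxy (fun e => hne (by rw [Subtype.ext e])), map_mul _ _ _⟩
    · exfalso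
      have h1 : orderOf (QuotientGroup.mk' O (x * y)) = 1 := by
        refine Nat.eq_one_of_dvd_coprimes ?_ (orderOf_map_dvd _ _) (orderOf_dvd_of_pow_eq_one
          (by rw [← map_pow]; exact hsq))
        rw [← orderOf_coe, Subgroup.coe_mul]
        exact hodd.coprime_two_right
      rw [orderOf_eq_one_iff, map_mul] at h1
      exact hne ((mul_eq_one_iff_eq_inv.1 h1).trans (inv_eq_of_mul_eq_one_left (hZ2 _ ⟨y, hy, rfl⟩).1))
    · exfalso
      refine hno2 ((x * y) ^ 2) ?_ ((QuotientGroup.eq_one_iff _).1 hsq)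
      rw [← orderOf_coe, SubmonoidClass.coe_pow, Subgroup.coe_mul, orderOf_pow, h4]
      decide
  -- Bender's theorem in `L`
  have hLse : Cfsg.IsStronglyPEmbedded 2 ((N.map π).subgroupOf L) := by
    obtain ⟨hne', hev, hodd⟩ := Tight.isolated_iff.1 hiso
    exact Invol.isStronglyPEmbedded_iff.2 ⟨even_iff_two_dvd.1 hev, hne', fun g hg hd =>
      Nat.not_even_iff_odd.2 (hodd g hg) (even_iff_two_dvd.2 hd)⟩
  have hgenB : Subgroup.closure (φ '' Z) = ⊤ := by
    rw [← MonoidHom.map_closure, hgen, ← MonoidHom.range_eq_map, MonoidHom.range_eq_top.2 hφs]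
  have hpec : Cfsg.pElementClosure 2 (⊤ : Subgroup (↥L ⧸ OL)) = ⊤ := Tight.pElementClosure_eq_top hgenB (by
    rintro _ ⟨z, hz, rfl⟩
    rw [← map_mul, (hZ2 z hz).1, map_one])
  let e : ↥(Cfsg.pElementClosure 2 (⊤ : Subgroup (↥L ⧸ OL))) ≃* ↥L ⧸ OL :=
    (MulEquiv.subgroupCongr hpec).trans Subgroup.topEquiv
  rcases Cfsg.Agent.S2798.result _ hLse with h1 | h1
  · -- one involution modulo the core
    obtain ⟨q, hq, hqN⟩ := h.meets
    have hqS : (⟨q, subset_closure hq⟩ : ↥M) ∈ S := hq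
    set x₀ : ↥M := ⟨q, subset_closure hq⟩
    have hρ2 : ∀ x ∈ S, orderOf (ρ x) = 2 := fun x hx => Invol.orderOf_two_iff.2
      ⟨by rw [← map_mul, Invol.mul_self_of_orderOf_two (hS2 x hx), map_one], fun e => (hρker x e).elim
        (Invol.ne_one_of_orderOf_two (hS2 x hx)) fun e => hSu x hx (by rw [e])⟩
    have hall : ∀ x ∈ S, QuotientGroup.mk' OL (ρ x) = QuotientGroup.mk' OL (ρ x₀) := fun x hx =>
      Tight.eq_mod_core h1 (hρ2 x hx) (hρ2 x₀ hqS)
    have hdiff : ∃ z ∈ Z, z ≠ QuotientGroup.mk' O x₀ := by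
      by_contra hno
      push Not at hno
      have hle : Subgroup.closure Z ≤ Subgroup.zpowers (QuotientGroup.mk' O x₀) := by
        rw [Subgroup.closure_le]
        intro z hz
        rw [hno z hz]
        exact mem_zpowers _
      obtain ⟨k, hk⟩ := mem_zpowers_iff.1 (hle (hgen ▸ mem_top ub))
      rcases Int.even_or_odd' k with ⟨m, hm | hm⟩
      · rw [hm, zpow_mul, zpow_two, (hZ2 _ ⟨x₀, hqS, rfl⟩).1, one_zpow] at hk
        exact hub1 hk.symm
      · rw [hm, zpow_add, zpow_mul, zpow_two, (hZ2 _ ⟨x₀, hqS, rfl⟩).1, one_zpow, one_mul, zpow_one] at hk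
        exact huZ ⟨x₀, hqS, hk⟩
    obtain ⟨_, ⟨x, hx, rfl⟩, hxne⟩ := hdiff
    have hxe : QuotientGroup.mk' O x = QuotientGroup.mk' O x₀ * ub := by
      have h0 : φ ((QuotientGroup.mk' O x₀)⁻¹ * QuotientGroup.mk' O x) = 1 := by
        rw [map_mul, map_inv, show φ (QuotientGroup.mk' O x) = φ (QuotientGroup.mk' O x₀) from hall x hx,
          inv_mul_cancel]
      rcases hφker _ h0 with e | e
      · exact absurd (inv_mul_eq_one.1 e).symm hxne
      · rw [← e, mul_inv_cancel_left]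
    refine huZ ?_
    have h4 := hmul _ ⟨x₀, hqS, rfl⟩ _ ⟨x, hx, rfl⟩ (by rw [hxe, ← mul_assoc, mul_assoc _ ub, hubc, mul_assoc])
      hxne.symm
    rwa [hxe, ← mul_assoc, (hZ2 _ ⟨x₀, hqS, rfl⟩).1, one_mul] at h4
  · refine Invol.BenderCover.bender_cover_false φ hφs ub hubc hub2 hub1 hφu hφker (Q := ↥L ⧸ OL) ?_ Z hZ2 hZc
      hgen huZ hmul
    rcases h1 with ⟨F, i1, i2, hc, h4, ⟨e'⟩⟩ | ⟨F, i1, i2, q, hq, h4, hF, ⟨e'⟩⟩ | h1
    · exact Or.inl ⟨F, i1, i2, hc, h4, ⟨e.symm.trans e'⟩⟩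
    · exact Or.inr (Or.inl ⟨F, i1, i2, q, hq, h4, hF, ⟨e.symm.trans e'⟩⟩)
    · exact Or.inr (Or.inr (CoreConsumers.isoSuzuki_congr h1 e.symm))

end Cfsg.Agent.Fus.RootCrit
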