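import Mathlib
import Cfsg.Agent.Lib.Fus.RootCriterion.Central
import Cfsg.Agent.Lib.Fus.RootCriterion.Cover

/-!
# `M ∩ ⟨D⟩` is strongly embedded in `⟨D⟩`

Aschbacher's criterion is a hypothesis; its inductive clause comes from the statement for `C(u)`, and for
`G / ⟨u⟩` when `u` is central.
-/

set_option autoImplicit false

namespace Cfsg.Agent.Fus.RootCrit

open Subgroup

universe u

variable {G : Type u} [Group G] [Finite G] {D : Set G} {M : Subgroup G}

/-- Closed under commuting products. -/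
def IsClosedSet (D : Set G) : Prop := ∀ a ∈ D, ∀ b ∈ D, a * b = b * a → a ≠ b → a * b ∈ D

theorem Hyp.normalClosure_eq (h : Hyp D M) {z : G} (hz : z ∈ D) (hzM : z ∈ M) :
    Subgroup.normalClosure ({z} : Set G) = Subgroup.closure D := by
  haveI : (Subgroup.closure D).Normal := by
    refine ⟨fun n hn g => ?_⟩
    have h1 : (Subgroup.closure D).map (MulAut.conj g).toMonoidHom ≤ Subgroup.closure D := by
      rw [MonoidHom.map_closure, closure_le]
      rintro _ ⟨x, hx, rfl⟩
      exact subset_closure (h.conj x hx g)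
    exact h1 ⟨n, hn, rfl⟩
  refine le_antisymm (normalClosure_le_normal (Set.singleton_subset_iff.2 (subset_closure hz)))
    ((closure_le _).2 fun x hx => ?_)
  obtain ⟨g, rfl⟩ := _root_.isConj_iff.1 (h.isConj hz hzM hx)
  have hzm : z ∈ Subgroup.normalClosure ({z} : Set G) := subset_normalClosure (Set.mem_singleton z)
  exact (Subgroup.normalClosure_normal (s := ({z} : Set G))).conj_mem z hzm g

/-- The hypothesis for a subgroup containing `z`. -/
theorem Hyp.restrict (h : Hyp D M) {z : G} (hz : z ∈ D) (hzM : z ∈ M) {C : Subgroup G} (hzC : z ∈ C)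
    (hC : ¬ C ≤ M) : Hyp {x : ↥C | (x : G) ∈ D} (M.subgroupOf C) where
  inv x hx := (orderOf_coe x).symm.trans (h.inv _ hx)
  conj x hx g := h.conj _ hx g
  pair a ha b hb := by
    rcases h.pair _ ha _ hb with e | e | ⟨e, e'⟩
    · exact Or.inl (Subtype.ext e)
    · exact Or.inr (Or.inl (by rwa [← orderOf_coe, Subgroup.coe_mul]))
    · exact Or.inr (Or.inr ⟨by rwa [← orderOf_coe, Subgroup.coe_mul], by
        show (((a * b) ^ 2 : ↥C) : G) ∈ D
        simpa using e'⟩)
  meets := ⟨⟨z, hzC⟩, hz, hzM⟩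
  moves d hd hdM g hg := h.moves _ hd hdM g hg
  ne_top e := hC (subgroupOf_eq_top.1 e)

/-- The hypothesis modulo a central involution outside `D`. -/
theorem Hyp.quotient (h : Hyp D M) (hcl : IsClosedSet D) {u : G} (hu2 : orderOf u = 2)
    (huc : ∀ g, u * g = g * u) (huD : u ∉ D) {H : Type u} [Group H] (π : G →* H)
    (hsurj : Function.Surjective π) (hker : ∀ g, π g = 1 → g = 1 ∨ g = u) (hπu : π u = 1) :
    Hyp (π '' D) (M.map π) ∧ IsClosedSet (π '' D) := by
  obtain ⟨z, hz, hzM⟩ := h.meets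
  have huM : u ∈ M := h.mem_of_commute hz hzM (huc z)
  have hlift : ∀ {n : G}, π n ∈ M.map π → n ∈ M := by
    rintro n ⟨m, hm, hmn⟩
    rcases hker (m⁻¹ * n) (by rw [map_mul, map_inv, hmn, inv_mul_cancel]) with e | e
    · exact inv_mul_eq_one.1 e ▸ hm
    · rw [show n = m * u by rw [← e, mul_inv_cancel_left]]
      exact mul_mem hm huM
  have hsq : ∀ x ∈ D, π x * π x = 1 := fun x hx => by rw [← map_mul, h.mul_self hx, map_one]
  have hne : ∀ x ∈ D, π x ≠ 1 := fun x hx e =>
    (hker x e).elim (Invol.ne_one_of_orderOf_two (h.inv x hx)) fun e => huD (e ▸ hx)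
  have hfour : ∀ a ∈ D, ∀ b ∈ D, orderOf (a * b) = 4 → (a * b) ^ 2 ∈ D → π ((a * b) ^ 2) ≠ 1 :=
    fun a ha b hb h4 hsqD => hne _ hsqD
  refine ⟨⟨?_, ?_, ?_, ⟨π z, ⟨z, hz, rfl⟩, ⟨z, hzM, rfl⟩⟩, ?_, fun e => ?_⟩, ?_⟩
  · rintro _ ⟨x, hx, rfl⟩
    exact Invol.orderOf_two_iff.2 ⟨hsq x hx, hne x hx⟩
  · rintro _ ⟨x, hx, rfl⟩ g
    obtain ⟨g, rfl⟩ := hsurj g
    exact ⟨g * x * g⁻¹, h.conj x hx g, by simp⟩
  · rintro _ ⟨a, ha, rfl⟩ _ ⟨b, hb, rfl⟩
    rcases h.pair a ha b hb with e | e | ⟨e, e'⟩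
    · exact Or.inl (by rw [← map_mul, e, map_mul])
    · exact Or.inr (Or.inl (by rw [← map_mul]; exact e.of_dvd_nat (orderOf_map_dvd π _)))
    · refine Or.inr (Or.inr ⟨?_, (a * b) ^ 2, e', by simp⟩)
      haveI : Fact (Nat.Prime 2) := ⟨Nat.prime_two⟩
      rw [← map_mul, show (4 : ℕ) = 2 ^ (1 + 1) by norm_num]
      exact orderOf_eq_prime_pow (n := 1) (by rw [pow_one, ← map_pow]; exact hfour a ha b hb e e')
        (by rw [← map_pow, show 2 ^ (1 + 1) = orderOf (a * b) by rw [e]; norm_num, pow_orderOf_eq_one, map_one])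
  · rintro _ ⟨x, hx, rfl⟩ hxM g hg
    obtain ⟨g, rfl⟩ := hsurj g
    refine ⟨g, h.moves x hx (hlift hxM) g (hlift ?_), rfl⟩
    rwa [map_mul, map_mul, map_inv]
  · obtain ⟨d, hd, hdM, e', he', heM⟩ := h.exists_outside
    exact heM (hlift (e ▸ mem_top (π e')))
  · rintro _ ⟨a, ha, rfl⟩ _ ⟨b, hb, rfl⟩ hc hne'
    have hsq2 : π ((a * b) ^ 2) = 1 := by
      rw [map_pow, map_mul, (show Commute (π a) (π b) from hc).mul_pow, pow_two, pow_two, hsq a ha, hsq b hb,
        one_mul]
    rcases h.pair a ha b hb with e | e | ⟨e, e'⟩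
    · exact ⟨a * b, hcl a ha b hb e (fun e1 => hne' (by rw [e1])), map_mul _ _ _⟩
    · exfalso
      have h1 : orderOf (π (a * b)) = 1 := Nat.eq_one_of_dvd_coprimes e.coprime_two_right
        (orderOf_map_dvd _ _) (orderOf_dvd_of_pow_eq_one (by rw [← map_pow]; exact hsq2))
      rw [orderOf_eq_one_iff, map_mul] at h1
      exact hne' ((mul_eq_one_iff_eq_inv.1 h1).trans (inv_eq_of_mul_eq_one_left (hsq b hb)))
    · exact absurd hsq2 (hfour a ha b hb e e')

/-- The inductive form of the theorem. -/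
theorem isolated_closure (hA : Tight.Criterion.{u}) (n : ℕ) :
    ∀ (G : Type u) [Group G] [Finite G], Nat.card G ≤ n → ∀ (D : Set G) (M : Subgroup G), Hyp D M →
      IsClosedSet D → Tight.Isolated M (Subgroup.closure D) := by
  induction n with
  | zero =>
    intro G _ _ hG D M _ _
    exact absurd hG (by have := Nat.card_pos (α := G); omega)
  | succ n ih =>
    intro G _ _ hG D M h hcl
    obtain ⟨z, hz, hzM⟩ := h.meets
    obtain ⟨P, hzP⟩ := h.exists_central hcl hz hzM
    have hz2 := h.inv z hz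
    have hi : ∀ g : G, z ∈ M.map (MulAut.conj g).toMonoidHom ↔ g ∈ M := by
      intro g
      rw [Invol.mem_map_conj]
      refine ⟨fun hg => ?_, fun hg => ?_⟩
      · exact inv_mem_iff.1 (h.moves z hz hzM g⁻¹ (by simpa using hg))
      · exact mul_mem (mul_mem (inv_mem hg) hzM) hg
    rw [← h.normalClosure_eq hz hzM, Tight.isolated_iff]
    refine hA P z hz2 hzP M h.ne_top hi fun u hu huz hnle => ?_
    rw [← Tight.isolated_iff]
    obtain ⟨C, hC⟩ : ∃ C, C = Subgroup.centralizer ({u} : Set G) := ⟨_, rfl⟩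
    have hzCu : z ∈ C := hC ▸ mem_centralizer_singleton_iff.2 huz.symm
    obtain ⟨c, hcC, hcN⟩ := SetLike.not_le_iff_exists.1 (hC.symm ▸ hnle : ¬ C ≤ M)
    set S := {x : G | IsConj z x ∧ x * u = u * x} with hS
    have hSinv : ∀ x ∈ S, x ∈ D ∧ x ∈ C := by
      rintro x ⟨hx1, hx2⟩
      obtain ⟨g, rfl⟩ := _root_.isConj_iff.1 hx1
      exact ⟨h.conj z hz g, hC ▸ mem_centralizer_singleton_iff.2 hx2⟩
    have hzL : z ∈ Subgroup.closure S := subset_closure ⟨IsConj.refl z, huz.symm⟩
    have hLN : ¬ Subgroup.closure S ≤ M := fun hle => by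
      have hcz : c * z * c⁻¹ ∈ S := by
        refine ⟨_root_.isConj_iff.2 ⟨c, rfl⟩, ?_⟩
        have h1 : Commute c u := mem_centralizer_singleton_iff.1 (hC ▸ hcC)
        have h2 : Commute z u := huz.symm
        exact ((h1.mul_left h2).mul_left h1.inv_left).eq
      exact hcN (h.moves z hz hzM c (hle (subset_closure hcz)))
    by_cases htop : C = ⊤
    · -- `u` is central
      have huc : ∀ g : G, u * g = g * u := fun g =>
        (mem_centralizer_singleton_iff.1 (hC ▸ htop.ge (mem_top g))).symm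
      have huD : u ∉ D := fun huD => by
        obtain ⟨d, hd, hdM, e, he, heM⟩ := h.exists_outside
        obtain ⟨g, hg⟩ := _root_.isConj_iff.1 (h.isConj hd hdM huD)
        have hdu : d = u := by
          calc d = g⁻¹ * u * g := by rw [← hg]; group
            _ = u := by rw [mul_assoc, huc g, inv_mul_cancel_left]
        exact heM (h.mem_of_commute hd hdM (hdu ▸ (huc e).symm))
      haveI : (Subgroup.zpowers u).Normal := ⟨fun a ha g => by
        obtain ⟨k, rfl⟩ := mem_zpowers_iff.1 ha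
        rw [← ((show Commute u g from huc g).zpow_left k).eq, mul_inv_cancel_right]
        exact ha⟩
      set π := QuotientGroup.mk' (Subgroup.zpowers u) with hπ
      have hker : ∀ g, π g = 1 → g = 1 ∨ g = u := fun g hg => by
        obtain ⟨k, rfl⟩ := mem_zpowers_iff.1 ((QuotientGroup.eq_one_iff g).1 hg)
        rcases Int.even_or_odd' k with ⟨m, rfl | rfl⟩
        · left; rw [zpow_mul, zpow_two, Invol.mul_self_of_orderOf_two hu, one_zpow]
        · right; rw [zpow_add, zpow_mul, zpow_two, Invol.mul_self_of_orderOf_two hu, one_zpow, one_mul, zpow_one]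
      have hπu : π u = 1 := (QuotientGroup.eq_one_iff u).2 (mem_zpowers u)
      obtain ⟨hH, hclH⟩ := h.quotient hcl hu huc huD π (QuotientGroup.mk'_surjective _) hker hπu
      have hlt : Nat.card (G ⧸ Subgroup.zpowers u) ≤ n := by
        have h1 := Subgroup.card_eq_card_quotient_mul_card_subgroup (Subgroup.zpowers u)
        rw [Nat.card_zpowers, hu] at h1
        have := Nat.card_pos (α := G)
        omega
      have hiso := ih _ hlt (π '' D) (M.map π) hH hclH
      rw [← MonoidHom.map_closure] at hiso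
      have huN : u ∈ M := h.mem_of_commute hz hzM (huc z)
      have hnot := h.central_notMem hcl hu huc huD π hker hπu hiso
      refine ⟨hLN, ⟨z, hzL, hzM, hz2⟩, fun t htL htN ht2 g hgL hgt => ?_⟩
      have hle : Subgroup.closure S ≤ Subgroup.closure D := closure_mono fun x hx => (hSinv x hx).1
      have ht' : π t ≠ 1 := fun e => (hker t e).elim (Invol.ne_one_of_orderOf_two ht2) fun e =>
        hnot (e ▸ hle htL)
      have := hiso.2.2 (π t) ⟨t, hle htL, rfl⟩ ⟨t, htN, rfl⟩ (Invol.orderOf_two_iff.2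
        ⟨by rw [← map_mul, Invol.mul_self_of_orderOf_two ht2, map_one], ht'⟩) (π g) ⟨g, hle hgL, rfl⟩
        ⟨g * t * g⁻¹, hgt, by simp⟩
      obtain ⟨m, hm, hme⟩ := this
      rcases hker (m⁻¹ * g) (by rw [map_mul, map_inv, hme, inv_mul_cancel]) with e | e
      · exact inv_mul_eq_one.1 e ▸ hm
      · rw [show g = m * u by rw [← e, mul_inv_cancel_left]]
        exact mul_mem hm huN
    · -- a proper centraliser
      have hH := h.restrict hz hzM hzCu (fun hle => hcN (hle hcC))
      have hclH : IsClosedSet {x : ↥C | (x : G) ∈ D} := fun a ha b hb hab hne =>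
        hcl _ ha _ hb (congrArg Subtype.val hab) (fun e => hne (Subtype.ext e))
      have hlt : Nat.card C < Nat.card G := by
        refine lt_of_le_of_ne (Subgroup.card_le_card_group C) fun e => htop ?_
        exact Subgroup.eq_top_of_card_eq C e
      have hih := ih _ (by omega) {x : ↥C | (x : G) ∈ D} (M.subgroupOf C) hH hclH
      have hle : Subgroup.closure S ≤ (Subgroup.closure {x : ↥C | (x : G) ∈ D}).map C.subtype := by
        rw [closure_le]
        intro x hx
        exact ⟨⟨x, (hSinv x hx).2⟩, subset_closure (hSinv x hx).1, rfl⟩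
      refine ⟨hLN, ⟨z, hzL, hzM, hz2⟩, fun t htL htN ht2 g hgL hgt => ?_⟩
      obtain ⟨t', ht', rfl⟩ := hle htL
      obtain ⟨g', hg', rfl⟩ := hle hgL
      exact hih.2.2 t' ht' htN ((orderOf_coe t').symm.trans ht2) g' hg' hgt

/-- `M ∩ ⟨D⟩` is strongly embedded in `⟨D⟩`. -/
theorem Hyp.isolated (h : Hyp D M) (hcl : IsClosedSet D) (hA : Tight.Criterion.{u}) :
    Tight.Isolated M (Subgroup.closure D) :=
  isolated_closure hA (Nat.card G) G le_rfl D M h hcl

end Cfsg.Agent.Fus.RootCrit
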