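import Mathlib
import Cfsg.Prelude.Def_QuasithinSetup
import Cfsg.Agent.Lib.Fus.RootCriterion.Isolated
import Cfsg.Agent.Lib.Fus.RootInvSimple
import Cfsg.Agent.Lib.Invol.Bender.Cor.Simple
import Cfsg.Agent.Lib.Local.CoreConsumers.SimpleBorel
import Cfsg.Agent.S2798

/-!
# A disconnected commuting graph of root involutions (S5044)

The stabiliser of a component gives `Hyp`.  In the simple quotient the core is trivial, so the class is closed
and Aschbacher's criterion makes the stabiliser strongly embedded.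
-/

set_option autoImplicit false
set_option linter.style.haveILetI false

namespace Cfsg.Agent.Fus.RootCrit

open Subgroup Relation

universe u

variable {G : Type u} [Group G] {D : Set G}

theorem reach_symm {a b : G} (h : ReflTransGen (Cfsg.CommAdj D) a b) : ReflTransGen (Cfsg.CommAdj D) b a := by
  induction h with
  | refl => exact .refl
  | tail _ hbc ih => exact ih.head ⟨hbc.2.1, hbc.1, hbc.2.2.1.symm, hbc.2.2.2.symm⟩

theorem reach_of_commute {a b : G} (ha : a ∈ D) (hb : b ∈ D) (hc : a * b = b * a) :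
    ReflTransGen (Cfsg.CommAdj D) a b := by
  by_cases hab : a = b
  · exact hab ▸ .refl
  · exact .single ⟨ha, hb, hab, hc⟩

theorem reach_conj (hD : ∀ x ∈ D, ∀ g : G, g * x * g⁻¹ ∈ D) {a b : G}
    (h : ReflTransGen (Cfsg.CommAdj D) a b) (g : G) :
    ReflTransGen (Cfsg.CommAdj D) (g * a * g⁻¹) (g * b * g⁻¹) := by
  refine h.lift (fun x => g * x * g⁻¹) fun x y hxy => ⟨hD x hxy.1 g, hD y hxy.2.1 g, fun e => hxy.2.2.1 ?_, ?_⟩
  · exact mul_left_cancel (mul_right_cancel e)
  · calc g * x * g⁻¹ * (g * y * g⁻¹) = g * (x * y) * g⁻¹ := by group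
      _ = g * (y * x) * g⁻¹ := by rw [hxy.2.2.2]
      _ = g * y * g⁻¹ * (g * x * g⁻¹) := by group

/-- Members of different components have a product of odd order. -/
theorem reach_or_odd (hD : Cfsg.IsRootInvolutionSet D) {a b : G} (ha : a ∈ D) (hb : b ∈ D) :
    ReflTransGen (Cfsg.CommAdj D) a b ∨ Odd (orderOf (a * b)) := by
  rcases hD.pair a ha b hb with hc | ho | ⟨h4, hsq⟩
  · exact Or.inl (reach_of_commute ha hb hc)
  · exact Or.inr ho
  refine Or.inl ?_
  have ha2 := hD.orderOf_eq a ha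
  have hb2 := hD.orderOf_eq b hb
  have hinv : ((a * b) ^ 2)⁻¹ = (a * b) ^ 2 :=
    inv_eq_of_mul_eq_one_right (by rw [← pow_add, show 2 + 2 = orderOf (a * b) by omega, pow_orderOf_eq_one])
  have key : ∀ x : G, x * (a * b) * x⁻¹ = (a * b)⁻¹ → x * (a * b) ^ 2 = (a * b) ^ 2 * x := fun x hx => by
    rw [← mul_inv_eq_iff_eq_mul, ← conj_pow, hx, inv_pow, hinv]
  have h1 := key a (Invol.conj_mul_eq_inv ha2 hb2)
  have h2 := key b (by
    rw [mul_inv_rev, Invol.inv_of_orderOf_two hb2, Invol.inv_of_orderOf_two ha2, mul_assoc, mul_assoc,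
      Invol.mul_self_of_orderOf_two hb2, mul_one])
  exact (reach_of_commute ha hsq h1).trans (reach_of_commute hsq hb h2.symm)

/-- The graph of odd products is connected. -/
theorem odd_connected (hD : Cfsg.IsRootInvolutionSet D) (hdis : ¬ Cfsg.IsConnectedSet (Cfsg.CommAdj D) D) :
    Cfsg.IsConnectedSet (Cfsg.OddAdj D) D := by
  simp only [Cfsg.IsConnectedSet, not_forall] at hdis
  obtain ⟨x, hx, y, hy, hxy⟩ := hdis
  have hedge : ∀ {a b : G}, a ∈ D → b ∈ D → ¬ ReflTransGen (Cfsg.CommAdj D) a b → Cfsg.OddAdj D a b :=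
    fun {a b} ha hb hn => ⟨ha, hb, fun e => hn (e ▸ .refl), (reach_or_odd hD ha hb).resolve_left hn⟩
  intro a ha b hb
  by_cases hab : ReflTransGen (Cfsg.CommAdj D) a b
  swap
  · exact .single (hedge ha hb hab)
  obtain ⟨c, hc, hac⟩ : ∃ c ∈ D, ¬ ReflTransGen (Cfsg.CommAdj D) a c := by
    by_cases hax : ReflTransGen (Cfsg.CommAdj D) a x
    · exact ⟨y, hy, fun hay => hxy ((reach_symm hax).trans hay)⟩
    · exact ⟨x, hx, hax⟩
  exact (ReflTransGen.single (hedge ha hc hac)).tail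
    (hedge hc hb fun hcb => hac (hab.trans (reach_symm hcb)))

/-- The stabiliser of a component. -/
theorem exists_hyp (hD : Cfsg.IsRootInvolutionSet D) (hdis : ¬ Cfsg.IsConnectedSet (Cfsg.CommAdj D) D) :
    ∃ M : Subgroup G, Hyp D M := by
  simp only [Cfsg.IsConnectedSet, not_forall] at hdis
  obtain ⟨a, ha, y, hy, hay⟩ := hdis
  let M : Subgroup G :=
    { carrier := {g | ReflTransGen (Cfsg.CommAdj D) a (g * a * g⁻¹)}
      one_mem' := by show ReflTransGen _ a (1 * a * 1⁻¹); simpa using ReflTransGen.refl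
      mul_mem' := by
        intro g k hg hk
        show ReflTransGen _ a (g * k * a * (g * k)⁻¹)
        have := reach_conj hD.conj_mem (show ReflTransGen _ a (k * a * k⁻¹) from hk) g
        rw [show g * (k * a * k⁻¹) * g⁻¹ = g * k * a * (g * k)⁻¹ by group] at this
        exact (show ReflTransGen _ a (g * a * g⁻¹) from hg).trans this
      inv_mem' := by
        intro g hg
        show ReflTransGen _ a (g⁻¹ * a * g⁻¹⁻¹)
        have := reach_conj hD.conj_mem (show ReflTransGen _ a (g * a * g⁻¹) from hg) g⁻¹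
        rw [show g⁻¹ * (g * a * g⁻¹) * g⁻¹⁻¹ = a by group] at this
        exact reach_symm this }
  have hmem : ∀ g : G, g ∈ M ↔ ReflTransGen (Cfsg.CommAdj D) a (g * a * g⁻¹) := fun g => Iff.rfl
  have hin : ∀ d ∈ D, d ∈ M ↔ ReflTransGen (Cfsg.CommAdj D) a d := by
    intro d hd
    refine ⟨fun hdM => ?_, fun h => ?_⟩
    · rcases reach_or_odd hD ha hd with h | ho
      · exact h
      obtain ⟨n, hn⟩ := ho
      have haM : a ∈ M := by rw [hmem, mul_inv_cancel_right]
      have hk : (a * d) ^ (n + 1) ∈ M := pow_mem (mul_mem haM hdM) _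
      have hda : d * (a * d) * d⁻¹ = (a * d)⁻¹ := by
        rw [mul_inv_rev, Invol.inv_of_orderOf_two (hD.orderOf_eq d hd), Invol.inv_of_orderOf_two (hD.orderOf_eq a ha),
          mul_assoc, mul_assoc, Invol.mul_self_of_orderOf_two (hD.orderOf_eq d hd), mul_one]
      have h3 : (a * d) ^ (n + 1 + (n + 1)) = a * d := by
        rw [show n + 1 + (n + 1) = (2 * n + 1) + 1 by omega, pow_succ, ← hn, pow_orderOf_eq_one, one_mul]
      have h4 := Tight.conj_pow_of_inverts hda (n + 1)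
      rw [h3, mul_assoc a d d, Invol.mul_self_of_orderOf_two (hD.orderOf_eq d hd), mul_one] at h4
      obtain ⟨k, hk'⟩ : ∃ k, k = (a * d) ^ (n + 1) := ⟨_, rfl⟩
      rw [← hk'] at h4 hk
      have h5 := (hmem _).1 (inv_mem hk)
      rwa [show k⁻¹ * a * k⁻¹⁻¹ = d by rw [← h4]; group] at h5
    · rw [hmem]
      have := reach_conj hD.conj_mem h d
      rw [mul_inv_cancel_right] at this
      exact h.trans (reach_symm this)
  refine ⟨M, ⟨hD.orderOf_eq, hD.conj_mem, hD.pair, ⟨a, ha, (hin a ha).2 .refl⟩, ?_, fun e => ?_⟩⟩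
  · intro d hd hdM g hg
    rw [hmem]
    exact ((hin _ (hD.conj_mem d hd g)).1 hg).trans (reach_symm (reach_conj hD.conj_mem ((hin d hd).1 hdM) g))
  · exact hay ((hin y hy).1 (e ▸ mem_top y))

/-- An element of odd order over the centre of `G / O₂(G)` that is inverted is trivial. -/
theorem eq_one_of_inverted [Finite G] {x t : G} (hodd : Odd (orderOf t)) (ht : t ∈ Cfsg.twoZCore G)
    (hinv : x * t * x⁻¹ = t⁻¹) : t = 1 := by
  haveI := Grp.pCore_isNormal (p := 2) (G := G)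
  have h1 : QuotientGroup.mk' (Cfsg.pCore 2 G) t ∈ Subgroup.center _ := ht
  have h2 := congrArg (QuotientGroup.mk' (Cfsg.pCore 2 G)) hinv
  rw [map_mul, map_mul, map_inv, map_inv, mem_center_iff.1 h1, mul_inv_cancel_right] at h2
  have h3 : t ^ 2 ∈ Cfsg.pCore 2 G := by
    rw [← QuotientGroup.eq_one_iff]
    show QuotientGroup.mk' (Cfsg.pCore 2 G) (t ^ 2) = 1
    rw [map_pow, pow_two, ← eq_inv_iff_mul_eq_one]
    exact h2
  obtain ⟨k, hk⟩ := (Grp.pCore_isPGroup (p := 2) (G := G)) ⟨_, h3⟩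
  have hk' : (t ^ 2) ^ 2 ^ k = 1 := congrArg Subtype.val hk
  rw [← pow_mul, ← pow_succ'] at hk'
  exact orderOf_eq_one_iff.1
    (Nat.eq_one_of_dvd_coprimes (Nat.Coprime.pow_right _ hodd.coprime_two_right) dvd_rfl (orderOf_dvd_of_pow_eq_one hk'))

/-- S5044. -/
theorem s5044_of (hA : Tight.Criterion.{u}) [Finite G] (hD : Cfsg.IsRootInvolutionSet D)
    (hDD : (D ∩ Cfsg.commutingProducts D).Nonempty) :
    Cfsg.IsConnectedSet (Cfsg.CommAdj D) D ∨
    (∃ (F : Type) (_ : Field F) (_ : Fintype F), CharP F 2 ∧ 4 ≤ Fintype.card F ∧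
      Nonempty (G ⧸ Cfsg.twoZCore G ≃* Matrix.ProjectiveSpecialLinearGroup (Fin 2) F)) ∨
    Cfsg.Lie.IsoSuzuki (G ⧸ Cfsg.twoZCore G) ∨
    (∃ (F : Type) (_ : Field F) (_ : Fintype F) (q : ℕ), CharP F 2 ∧ Fintype.card F = q ^ 2 ∧ 4 ≤ q ∧
      Nonempty (G ⧸ Cfsg.twoZCore G ≃* Cfsg.PSU 3 F q)) := by
  haveI : Fact (Nat.Prime 2) := ⟨Nat.prime_two⟩
  refine or_iff_not_imp_left.2 fun hdis => ?_
  have hc := odd_connected hD hdis
  haveI hsimp := (RootInvSimple.radical_and_simple hD hc hDD).2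
  set π := QuotientGroup.mk' (Cfsg.twoZCore G) with hπ
  have hπs : Function.Surjective π := QuotientGroup.mk'_surjective _
  have hNtop : Cfsg.twoZCore G ≠ ⊤ := fun e => by
    obtain ⟨q, hq⟩ := exists_ne (1 : G ⧸ Cfsg.twoZCore G)
    obtain ⟨g, rfl⟩ := hπs q
    exact hq ((QuotientGroup.eq_one_iff g).2 (e ▸ mem_top g))
  have hne : ∀ x ∈ D, π x ≠ 1 := fun x hx e =>
    hNtop (RootInvSimple.eq_top_of_mem hD hc hx ((QuotientGroup.eq_one_iff x).1 e))
  have hsq : ∀ x ∈ D, π x * π x = 1 := fun x hx => by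
    rw [← map_mul, Invol.mul_self_of_orderOf_two (hD.orderOf_eq x hx), map_one]
  -- the image is a set of root involutions
  have hD' : Cfsg.IsRootInvolutionSet (π '' D) := by
    refine ⟨?_, ?_, ?_, ?_⟩
    · rintro _ ⟨x, hx, rfl⟩
      exact Invol.orderOf_two_iff.2 ⟨hsq x hx, hne x hx⟩
    · rw [← MonoidHom.map_closure, hD.generates]
      exact Subgroup.map_top_of_surjective _ hπs
    · rintro _ ⟨x, hx, rfl⟩ g
      obtain ⟨g, rfl⟩ := hπs g
      exact ⟨g * x * g⁻¹, hD.conj_mem x hx g, by simp⟩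
    · rintro _ ⟨a, ha, rfl⟩ _ ⟨b, hb, rfl⟩
      rcases hD.pair a ha b hb with e | e | ⟨e, e'⟩
      · exact Or.inl (by rw [← map_mul, e, map_mul])
      · exact Or.inr (Or.inl (by rw [← map_mul]; exact e.of_dvd_nat (orderOf_map_dvd π _)))
      · refine Or.inr (Or.inr ⟨?_, (a * b) ^ 2, e', by simp⟩)
        rw [← map_mul, show (4 : ℕ) = 2 ^ (1 + 1) by norm_num]
        exact orderOf_eq_prime_pow (n := 1) (by rw [pow_one, ← map_pow]; exact hne _ e')
          (by rw [← map_pow, show 2 ^ (1 + 1) = orderOf (a * b) by rw [e]; norm_num, pow_orderOf_eq_one, map_one])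
  -- commuting images come from one component
  have hlift : ∀ x ∈ D, ∀ y ∈ D, π x * π y = π y * π x → ReflTransGen (Cfsg.CommAdj D) x y := by
    intro x hx y hy hc
    rcases reach_or_odd hD hx hy with h | ho
    · exact h
    have h2 : (x * y) ^ 2 ∈ Cfsg.twoZCore G := by
      rw [← QuotientGroup.eq_one_iff]
      show π ((x * y) ^ 2) = 1
      rw [map_pow, map_mul, (show Commute (π x) (π y) from hc).mul_pow, pow_two, pow_two, hsq x hx, hsq y hy,
        one_mul]
    obtain ⟨m, hm⟩ := ho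
    have h1 : x * y ∈ Cfsg.twoZCore G := by
      have : ((x * y) ^ 2) ^ (m + 1) = x * y := by
        rw [← pow_mul, show 2 * (m + 1) = orderOf (x * y) + 1 by omega, pow_succ, pow_orderOf_eq_one, one_mul]
      exact this ▸ pow_mem h2 _
    have h0 := eq_one_of_inverted ⟨m, hm⟩ h1
      (Invol.conj_mul_eq_inv (hD.orderOf_eq x hx) (hD.orderOf_eq y hy))
    have hxy : x = y := (mul_eq_one_iff_eq_inv.1 h0).trans (Invol.inv_of_orderOf_two (hD.orderOf_eq y hy))
    exact hxy ▸ .refl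
  have hdis' : ¬ Cfsg.IsConnectedSet (Cfsg.CommAdj (π '' D)) (π '' D) := by
    intro hcon
    refine hdis fun a ha b hb => ?_
    have key : ∀ q, ReflTransGen (Cfsg.CommAdj (π '' D)) (π a) q →
        ∀ c ∈ D, π c = q → ReflTransGen (Cfsg.CommAdj D) a c := by
      intro q hq
      induction hq with
      | refl => exact fun c hc hce => hlift a ha c hc (by rw [hce])
      | tail _ hpq ih =>
        intro c hc hce
        obtain ⟨p, hp, hpe⟩ := hpq.1
        exact (ih p hp hpe).trans (hlift p hp c hc (by rw [hce, hpe]; exact hpq.2.2.2))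
    exact key _ (hcon _ ⟨a, ha, rfl⟩ _ ⟨b, hb, rfl⟩) b hb rfl
  obtain ⟨M, h⟩ := exists_hyp hD' hdis'
  have hcore : M.normalCore = ⊥ := (M.normalCore_normal).eq_bot_or_eq_top.resolve_right fun e =>
    h.ne_top (top_le_iff.1 (e ▸ M.normalCore_le))
  have hcl : IsClosedSet (π '' D) := fun a ha b hb hab hne' => h.closed hcore ha hb hab hne'
  have hiso := h.isolated hcl hA
  rw [hD'.generates] at hiso
  obtain ⟨-, ⟨t, -, htM, ht2⟩, h3⟩ := hiso
  have hev : Even (Nat.card M) := Invol.even_card_of_mem (t := t) ht2 htM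
  have hse : Cfsg.IsStronglyEmbedded M := (Invol.isStronglyEmbedded_iff h.ne_top hev).2 fun s hs hs2 g hg =>
    inv_mem_iff.1 (h3 s (mem_top _) hs hs2 g⁻¹ (mem_top _) (by simpa using hg))
  obtain ⟨hne', hev', hodd⟩ := hse
  have hspe : Cfsg.IsStronglyPEmbedded 2 M := Invol.isStronglyPEmbedded_iff.2 ⟨even_iff_two_dvd.1 hev', hne',
    fun g hg hd => Nat.not_even_iff_odd.2 (hodd g hg) (even_iff_two_dvd.2 hd)⟩
  have hna : ¬ IsMulCommutative (G ⧸ Cfsg.twoZCore G) := fun hcomm => hdis' fun a ha b hb =>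
    reach_of_commute ha hb (hcomm.is_comm.comm a b)
  have h2 : 2 ∣ Nat.card (G ⧸ Cfsg.twoZCore G) := ht2 ▸ orderOf_dvd_natCard t
  rcases (CoreConsumers.simple_borel hna h2 (Cfsg.Agent.S2798.result _ hspe)).1 with
    ⟨F, i1, i2, n, hn, hF, e⟩ | e | ⟨F, i1, i2, n, hn, hF, e⟩
  · exact Or.inl ⟨F, i1, i2, Invol.Bender.Cor.charP_two_of_card hF,
      hF ▸ (Nat.pow_le_pow_right two_pos hn : 2 ^ 2 ≤ 2 ^ n), e⟩
  · exact Or.inr (Or.inl e)
  · exact Or.inr (Or.inr ⟨F, i1, i2, 2 ^ n, Invol.Bender.Cor.charP_two_of_card (hF.trans (pow_mul 2 n 2).symm),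
      hF, (Nat.pow_le_pow_right two_pos hn : 2 ^ 2 ≤ 2 ^ n), e⟩)

end Cfsg.Agent.Fus.RootCrit
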