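import Mathlib
import Cfsg.Agent.Lib.Fus.RootCriterion.Isolated

/-!
# The core-free case: `M` is strongly embedded

With `⟨D⟩ = G` and `M` core-free.
-/

set_option autoImplicit false

namespace Cfsg.Agent.Fus.RootCrit

open Subgroup

universe u

variable {G : Type u} [Group G] [Finite G] {D : Set G} {M : Subgroup G}

/-- `M` is strongly embedded when `⟨D⟩ = G` and `M` is core-free. -/
theorem Hyp.stronglyEmbedded (h : Hyp D M) (hA : Tight.Criterion.{u}) (hgen : Subgroup.closure D = ⊤)
    (hcore : M.normalCore = ⊥) : Cfsg.IsStronglyEmbedded M := by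
  obtain ⟨h1, ⟨t, -, htM, ht⟩, h3⟩ := h.isolated (fun a ha b hb hc hne => h.closed hcore ha hb hc hne) hA
  have hne : M ≠ ⊤ := fun e => h.ne_top e
  have hev : Even (Nat.card ↥M) := Invol.even_card_of_mem ht htM
  refine (Invol.isStronglyEmbedded_iff hne hev).2 fun s hs hs2 g hg => ?_
  have := h3 s (hgen ▸ mem_top s) hs hs2 g⁻¹ (hgen ▸ mem_top _) (by simpa using hg)
  exact inv_mem_iff.1 this

end Cfsg.Agent.Fus.RootCrit
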